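import Mathlib

/-!
Powers of an ideal generated by a sequence that is regular modulo `J`.
-/

namespace Groth.Agent.RegPow

variable {A : Type*} [CommRing A] (J : Ideal A)

/-- The two properties carried through the induction on the length of the sequence. -/
structure Good (I : Ideal A) : Prop where
  nzd : ∀ (K : Ideal A), J ⊔ I ≤ K → ∀ g : A, (∀ x, g * x ∈ K → x ∈ K) →
    ∀ (m : ℕ) (u : A), u ∈ I ^ m → g * u ∈ J ⊔ K * I ^ m → u ∈ J ⊔ K * I ^ m
  inter : ∀ n : ℕ, J ⊓ I ^ n ≤ J * I ^ n ⊔ I ^ (n + 1)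

lemma good_bot : Good J ⊥ := by
  constructor
  · intro K hK g hg m u hu hgu
    cases m with
    | zero =>
      simp only [pow_zero, Ideal.one_eq_top, Ideal.mul_top] at hgu ⊢
      have hJK : J ⊔ K = K := sup_eq_right.2 (le_sup_left.trans hK)
      rw [hJK] at hgu ⊢
      exact hg u hgu
    | succ m =>
      simp only [Ideal.bot_pow (Nat.succ_ne_zero m), Submodule.mem_bot] at hu
      rw [hu]; exact Submodule.zero_mem _
  · intro n
    cases n with
    | zero => simp
    | succ n => simp [Ideal.bot_pow (Nat.succ_ne_zero n)]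

variable {J}

/-- A nonzerodivisor modulo `J ⊔ I` is one modulo `J ⊔ I ^ m`. -/
lemma Good.nzd_pow {I : Ideal A} (hI : Good J I) {g : A} (hg : ∀ x, g * x ∈ J ⊔ I → x ∈ J ⊔ I) :
    ∀ (m : ℕ) (y : A), g * y ∈ J ⊔ I ^ m → y ∈ J ⊔ I ^ m := by
  intro m
  induction m with
  | zero => intro y _; simp
  | succ m ih =>
    intro y hy
    have e : J ⊔ (J ⊔ I) * I ^ m = J ⊔ I ^ (m + 1) := by
      rw [Ideal.sup_mul, ← sup_assoc, sup_eq_left.2 (Ideal.mul_le_left : J * I ^ m ≤ J), pow_succ']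
    have hle : J ⊔ I ^ (m + 1) ≤ J ⊔ I ^ m := sup_le_sup le_rfl (Ideal.pow_le_pow_right m.le_succ)
    obtain ⟨j, hj, u, hu, rfl⟩ := Submodule.mem_sup.1 (ih y (hle hy))
    refine Submodule.add_mem _ (Submodule.mem_sup_left hj) ?_
    rw [← e]
    refine hI.nzd _ le_rfl g hg m u hu ?_
    rw [e]
    have := Submodule.sub_mem _ hy (Submodule.mem_sup_left (J.mul_mem_left g hj))
    simpa [mul_add] using this

lemma mem_sup_span_mul {I B : Ideal A} {h x : A} (hx : x ∈ B * I ⊔ B * Ideal.span {h}) :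
    ∃ u ∈ B * I, ∃ v ∈ B, x = u + h * v := by
  obtain ⟨u, hu, w, hw, rfl⟩ := Submodule.mem_sup.1 hx
  obtain ⟨v, hv, rfl⟩ := Ideal.mem_mul_span_singleton.1 hw
  exact ⟨u, hu, v, hv, by rw [mul_comm h v]⟩

lemma pow_sup_span_succ (I : Ideal A) (h : A) (m : ℕ) :
    (I ⊔ Ideal.span {h}) ^ (m + 1) = I ^ (m + 1) ⊔ (I ⊔ Ideal.span {h}) ^ m * Ideal.span {h} := by
  induction m with
  | zero => simp
  | succ m ih =>
    apply le_antisymm
    · rw [pow_succ (I ⊔ Ideal.span {h}) (m + 1), Ideal.mul_sup]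
      refine sup_le ?_ le_sup_right
      conv_lhs => rw [ih]
      rw [Ideal.sup_mul, ← pow_succ]
      refine sup_le_sup le_rfl ?_
      rw [mul_right_comm, pow_succ]
      exact Ideal.mul_mono (Ideal.mul_mono le_rfl le_sup_left) le_rfl
    · refine sup_le (Ideal.pow_right_mono le_sup_left _) ?_
      rw [pow_succ (I ⊔ Ideal.span {h}) (m + 1)]
      exact Ideal.mul_mono le_rfl le_sup_right

lemma Good.step {I : Ideal A} (hI : Good J I) {h : A}
    (hh : ∀ x, h * x ∈ J ⊔ I → x ∈ J ⊔ I) : Good J (I ⊔ Ideal.span {h}) := by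
  set I' := I ⊔ Ideal.span {h} with hI'
  have hII' : I ≤ I' := le_sup_left
  have hhI' : h ∈ I' := Submodule.mem_sup_right (Ideal.mem_span_singleton_self h)
  constructor
  · intro K hK g hg m
    have hJK : J ≤ K := le_sup_left.trans hK
    have hI'K : I' ≤ K := le_sup_right.trans hK
    induction m with
    | zero =>
      intro u _ hu
      simp only [pow_zero, Ideal.one_eq_top, Ideal.mul_top, sup_eq_right.2 hJK] at hu ⊢
      exact hg u hu
    | succ m ih =>
      intro u hu hgu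
      -- the part divisible by `h`
      have hv_gen : ∀ v ∈ I' ^ m, ∀ u₀ ∈ I ^ (m + 1),
          g * (u₀ + h * v) ∈ J ⊔ K * I' ^ (m + 1) → v ∈ J ⊔ K * I' ^ m := by
        intro v hv u₀ hu₀ hmem
        rw [pow_sup_span_succ, Ideal.mul_sup, ← mul_assoc K] at hmem
        obtain ⟨j, hj, z, hz, hjz⟩ := Submodule.mem_sup.1 hmem
        obtain ⟨a, ha, b, hb, rfl⟩ := Submodule.mem_sup.1 hz
        obtain ⟨w, hw, rfl⟩ := Ideal.mem_mul_span_singleton.1 hb
        have h1 : h * (g * v - w) ∈ J ⊔ I ^ (m + 1) := by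
          have e : h * (g * v - w) = j + (a - g * u₀) := by linear_combination -hjz
          rw [e]
          exact Submodule.add_mem _ (Submodule.mem_sup_left hj) (Submodule.mem_sup_right
            (Ideal.sub_mem _ ((Ideal.mul_le_right : K * I ^ (m + 1) ≤ I ^ (m + 1)) ha) ((I ^ (m + 1)).mul_mem_left g hu₀)))
        have h2 := hI.nzd_pow hh (m + 1) _ h1
        have hle : J ⊔ I ^ (m + 1) ≤ J ⊔ K * I' ^ m := sup_le_sup le_rfl (by
          rw [pow_succ']; exact Ideal.mul_mono (hII'.trans hI'K) (Ideal.pow_right_mono hII' m))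
        refine ih v hv ?_
        have h3 := Submodule.add_mem _ (hle h2) (Submodule.mem_sup_right hw)
        simpa using h3
      rw [pow_sup_span_succ] at hu
      obtain ⟨u₀, hu₀, b, hb, rfl⟩ := Submodule.mem_sup.1 hu
      obtain ⟨v, hv, rfl⟩ := Ideal.mem_mul_span_singleton.1 hb
      have hv' := hv_gen v hv u₀ hu₀ (by rwa [mul_comm h v])
      have hlift : ∀ v, v ∈ J ⊔ K * I' ^ m → v * h ∈ J ⊔ K * I' ^ (m + 1) := by
        intro v hv
        obtain ⟨j, hj, a, ha, rfl⟩ := Submodule.mem_sup.1 hv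
        rw [add_mul, pow_succ, ← mul_assoc]
        exact Submodule.add_mem _ (Submodule.mem_sup_left (J.mul_mem_right h hj))
          (Submodule.mem_sup_right (Ideal.mul_mem_mul ha hhI'))
      refine Submodule.add_mem _ ?_ (hlift v hv')
      -- the part in `I ^ (m + 1)`
      have hgu₀ : g * u₀ ∈ J ⊔ K * I' ^ (m + 1) := by
        have := Submodule.sub_mem _ hgu (Ideal.mul_mem_left _ g (hlift v hv'))
        simpa [mul_add] using this
      rw [pow_sup_span_succ, Ideal.mul_sup, ← mul_assoc K] at hgu₀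
      obtain ⟨j, hj, z, hz, hjz⟩ := Submodule.mem_sup.1 hgu₀
      obtain ⟨a, ha, b, hb', rfl⟩ := Submodule.mem_sup.1 hz
      obtain ⟨w, hw, rfl⟩ := Ideal.mem_mul_span_singleton.1 hb'
      have h1 : h * w ∈ J ⊔ I ^ (m + 1) := by
        have e : h * w = (-j) + (g * u₀ - a) := by linear_combination hjz
        rw [e]
        exact Submodule.add_mem _ (Submodule.mem_sup_left (J.neg_mem hj)) (Submodule.mem_sup_right
          (Ideal.sub_mem _ ((I ^ (m + 1)).mul_mem_left g hu₀) ((Ideal.mul_le_right : K * I ^ (m + 1) ≤ I ^ (m + 1)) ha)))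
      obtain ⟨j₂, hj₂, u₂, hu₂, rfl⟩ := Submodule.mem_sup.1 (hI.nzd_pow hh (m + 1) _ h1)
      have hle : K * I ^ (m + 1) ≤ K * I' ^ (m + 1) :=
        Ideal.mul_mono le_rfl (Ideal.pow_right_mono hII' _)
      have hg₀ : g * u₀ ∈ J ⊔ K * I ^ (m + 1) := by
        have e : g * u₀ = (j + j₂ * h) + (a + h * u₂) := by linear_combination -hjz
        rw [e]
        exact Submodule.add_mem _ (Submodule.mem_sup_left (J.add_mem hj (J.mul_mem_right h hj₂)))
          (Submodule.mem_sup_right (Ideal.add_mem _ ha (Ideal.mul_mem_mul (hI'K hhI') hu₂)))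
      exact sup_le_sup le_rfl hle
        (hI.nzd K ((sup_le_sup le_rfl hII').trans hK) g hg (m + 1) u₀ hu₀ hg₀)
  · intro n
    induction n with
    | zero => simp
    | succ n ih =>
      rintro x ⟨hxJ, hxI⟩
      rw [SetLike.mem_coe, pow_sup_span_succ] at hxI
      obtain ⟨u, hu, b, hb, rfl⟩ := Submodule.mem_sup.1 hxI
      obtain ⟨y, hy, rfl⟩ := Ideal.mem_mul_span_singleton.1 hb
      have h1 : h * y ∈ J ⊔ I ^ (n + 1) := by
        have e : h * y = (u + y * h) + (-u) := by ring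
        rw [e]
        exact Submodule.add_mem _ (Submodule.mem_sup_left hxJ)
          (Submodule.mem_sup_right ((I ^ (n + 1)).neg_mem hu))
      obtain ⟨j, hj, z, hz, rfl⟩ := Submodule.mem_sup.1 (hI.nzd_pow hh (n + 1) _ h1)
      have hz' : z ∈ I' ^ n := (Ideal.pow_right_mono hII' _).trans
        (Ideal.pow_le_pow_right n.le_succ) hz
      have hj' : j ∈ J * I' ^ n ⊔ I' ^ (n + 1) :=
        ih ⟨hj, by simpa using (I' ^ n).sub_mem hy hz'⟩
      have h2 : j * h ∈ J * I' ^ (n + 1) ⊔ I' ^ (n + 1 + 1) := by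
        rw [pow_succ I' n, pow_succ I' (n + 1), ← mul_assoc, ← Ideal.sup_mul]
        refine Ideal.mul_mem_mul ?_ hhI'
        rw [pow_succ] at hj'
        exact hj'
      have h3 : u + z * h ∈ J ⊓ I ^ (n + 1) := by
        refine ⟨?_, (I ^ (n + 1)).add_mem hu ((I ^ (n + 1)).mul_mem_right h hz)⟩
        have e : u + z * h = u + (j + z) * h - j * h := by ring
        rw [e]
        exact J.sub_mem hxJ (J.mul_mem_right h hj)
      have h4 : J * I ^ (n + 1) ⊔ I ^ (n + 1 + 1) ≤ J * I' ^ (n + 1) ⊔ I' ^ (n + 1 + 1) :=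
        sup_le_sup (Ideal.mul_mono le_rfl (Ideal.pow_right_mono hII' _)) (Ideal.pow_right_mono hII' _)
      have := Submodule.add_mem _ (h4 (hI.inter (n + 1) h3)) h2
      convert this using 1
      ring

theorem good_span : ∀ {r : ℕ} (f : Fin r → A),
    (∀ i : Fin r, ∀ x, f i * x ∈ J ⊔ Ideal.span (f '' {j | j < i}) →
      x ∈ J ⊔ Ideal.span (f '' {j | j < i})) →
    Good J (Ideal.span (Set.range f)) := by
  intro r
  induction r with
  | zero =>
    intro f _
    rw [Set.range_eq_empty, Ideal.span_empty]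
    exact good_bot J
  | succ r ih =>
    intro f hf
    have hpre : ∀ i : Fin r, f '' {j | j < i.castSucc} = (f ∘ Fin.castSucc) '' {j | j < i} := by
      intro i
      ext y
      constructor
      · rintro ⟨j, hj, rfl⟩
        have : j ≠ Fin.last r := fun h => absurd (h ▸ hj) (not_lt.2 (Fin.le_last _))
        obtain ⟨j, rfl⟩ := Fin.exists_castSucc_eq.2 this
        exact ⟨j, Fin.castSucc_lt_castSucc_iff.1 hj, rfl⟩
      · rintro ⟨j, hj, rfl⟩
        exact ⟨j.castSucc, Fin.castSucc_lt_castSucc_iff.2 hj, rfl⟩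
    have hlast : f '' {j | j < Fin.last r} = Set.range (f ∘ Fin.castSucc) := by
      ext y
      constructor
      · rintro ⟨j, hj, rfl⟩
        obtain ⟨j, rfl⟩ := Fin.exists_castSucc_eq.2 hj.ne
        exact ⟨j, rfl⟩
      · rintro ⟨j, rfl⟩
        exact ⟨j.castSucc, Fin.castSucc_lt_last j, rfl⟩
    have h1 : Ideal.span (Set.range f) =
        Ideal.span (Set.range (f ∘ Fin.castSucc)) ⊔ Ideal.span {f (Fin.last r)} := by
      rw [← Ideal.span_union]
      congr 1
      ext y
      constructor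
      · rintro ⟨j, rfl⟩
        induction j using Fin.lastCases with
        | last => exact Or.inr rfl
        | cast j => exact Or.inl ⟨j, rfl⟩
      · rintro (⟨j, rfl⟩ | rfl) <;> exact ⟨_, rfl⟩
    rw [h1]
    refine (ih (f ∘ Fin.castSucc) fun i x => ?_).step fun x => ?_
    · rw [← hpre i]; exact hf i.castSucc x
    · rw [← hlast]; exact hf (Fin.last r) x

theorem inter_pow_eq {I : Ideal A} (hI : Good J I) {n N : ℕ} (hn : n ≤ N) :
    J ⊓ I ^ n = J * I ^ n ⊔ J ⊓ I ^ N := by
  refine le_antisymm ?_ (sup_le (le_inf Ideal.mul_le_left Ideal.mul_le_right)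
    (inf_le_inf_left _ (Ideal.pow_le_pow_right hn)))
  induction N, hn using Nat.le_induction with
  | base => exact le_sup_right
  | succ N hnN ih =>
    refine ih.trans (sup_le le_sup_left ?_)
    rintro x ⟨hxJ, hxI⟩
    obtain ⟨a, ha, b, hb, rfl⟩ := Submodule.mem_sup.1 (hI.inter N ⟨hxJ, hxI⟩)
    refine Submodule.mem_sup.2 ⟨a, Ideal.mul_mono le_rfl (Ideal.pow_le_pow_right hnN) ha, b,
      ⟨?_, hb⟩, rfl⟩
    simpa using J.sub_mem hxJ (Ideal.mul_le_left ha)

theorem inter_pow_eq_mul [IsNoetherianRing A] {I : Ideal A} (hI : Good J I) (n : ℕ) :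
    J ⊓ I ^ n = J * I ^ n := by
  refine le_antisymm ?_ (le_inf Ideal.mul_le_left Ideal.mul_le_right)
  obtain ⟨k, hk⟩ := I.exists_pow_inf_eq_pow_smul J
  rw [inter_pow_eq hI (show n ≤ n + k by omega)]
  refine sup_le le_rfl ?_
  have h := hk (n + k) (by omega)
  rw [smul_eq_mul, Ideal.mul_top, Nat.add_sub_cancel, smul_eq_mul] at h
  rw [inf_comm, h, mul_comm]
  exact Ideal.mul_mono inf_le_right le_rfl

/-- The hypothesis of `good_span` from weak regularity on `A ⧸ J`. -/
theorem of_isWeaklyRegular (J : Ideal A) {r : ℕ} {f : Fin r → A}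
    (hf : RingTheory.Sequence.IsWeaklyRegular (A ⧸ J) (List.ofFn f)) :
    Good J (Ideal.span (Set.range f)) := by
  refine good_span f fun i x hx => ?_
  have h := hf.regular_mod_prev i (by simp)
  rw [isSMulRegular_quotient_iff_mem_of_smul_mem] at h
  have hset : ({a : A | a ∈ (List.ofFn f).take i} : Set A) = f '' {j | j < i} := by
    ext y
    simp only [Set.mem_setOf_eq, List.mem_take_iff_getElem, List.length_ofFn, List.getElem_ofFn,
      Set.mem_image]
    constructor
    · rintro ⟨j, hj, rfl⟩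
      exact ⟨⟨j, by omega⟩, by show (j : ℕ) < (i : ℕ); omega, rfl⟩
    · rintro ⟨j, hj, rfl⟩
      exact ⟨j, by simp only [lt_min_iff]; exact ⟨hj, j.2⟩, rfl⟩
  have hmap : (Ideal.ofList ((List.ofFn f).take i) • ⊤ : Submodule A (A ⧸ J)) =
      Submodule.map J.mkQ (Ideal.span (f '' {j | j < i})) := by
    conv_rhs => rw [← Ideal.mul_top (Ideal.span (f '' {j | j < i})), ← smul_eq_mul,
      Submodule.map_smul'', Submodule.map_top, Submodule.range_mkQ]
    rw [Ideal.ofList, hset]
  have hiff : ∀ z : A, (J.mkQ z ∈ (Ideal.ofList ((List.ofFn f).take i) • ⊤ : Submodule A (A ⧸ J))) ↔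
      z ∈ J ⊔ Ideal.span (f '' {j | j < i}) := by
    intro z
    rw [hmap, ← Submodule.mem_comap, Submodule.comap_map_mkQ]
  rw [← hiff] at hx ⊢
  refine h _ ?_
  rw [List.getElem_ofFn, ← map_smul, smul_eq_mul]
  exact hx

end Groth.Agent.RegPow
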